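import Mathlib.Topology.Sheaves.Skyscraper
import Mathlib.Topology.Sheaves.Functors
import Mathlib.Topology.Sheaves.SheafCondition.Sites
import Mathlib.CategoryTheory.Adjunction.FullyFaithful
import Mathlib.CategoryTheory.Adjunction.Triple

/-!
# Sheaves of sets and embeddings
-/

set_option autoImplicit false

universe u

open CategoryTheory CategoryTheory.Limits TopologicalSpace Opposite TopCat Topology

namespace Groth.Agent.ShSpLib

variable {Z X : TopCat.{u}}

lemma map_two (P : (Opens Z)ᵒᵖ ⥤ Type u) {a b c d : (Opens Z)ᵒᵖ} (p : a ⟶ b) (q : b ⟶ d) (r : a ⟶ c) (s : c ⟶ d)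
    (x : P.obj a) : P.map q (P.map p x) = P.map s (P.map r x) := by
  rw [← Functor.map_comp_apply, ← Functor.map_comp_apply]
  congr 2

lemma map_self (P : (Opens Z)ᵒᵖ ⥤ Type u) {a : (Opens Z)ᵒᵖ} (p : a ⟶ a) (x : P.obj a) : P.map p x = x := by
  rw [show p = 𝟙 a from rfl, Functor.map_id_apply]

/-- Pushforward along an inducing map is fully faithful. -/
theorem pushforward_fullyFaithful {f : Z ⟶ X} (hf : IsInducing f) :
    (TopCat.Sheaf.pushforward (Type u) f).Full ∧ (TopCat.Sheaf.pushforward (Type u) f).Faithful := by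
  have h := hf.map_functorObj
  constructor
  · refine ⟨fun {F G} η => ?_⟩
    let α : F.1 ⟶ G.1 :=
      { app := fun U => F.1.map (eqToHom (h U.unop)).op ≫ η.1.app (op (hf.functorObj U.unop)) ≫
          G.1.map (eqToHom (h U.unop).symm).op
        naturality := fun U V g => by
          ext x
          let k := (hf.functor.map g.unop).op
          have nat : ∀ y, η.1.app (op (hf.functorObj V.unop)) (F.1.map ((Opens.map f).map k.unop).op y) =
              G.1.map ((Opens.map f).map k.unop).op (η.1.app (op (hf.functorObj U.unop)) y) :=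
            fun y => congrArg (fun q => q y) (η.1.naturality k)
          show G.1.map _ (η.1.app (op (hf.functorObj V.unop)) (F.1.map _ (F.1.map g x))) =
            G.1.map g (G.1.map _ (η.1.app (op (hf.functorObj U.unop)) (F.1.map _ x)))
          rw [map_two F.1 g (eqToHom (h V.unop)).op (eqToHom (h U.unop)).op ((Opens.map f).map k.unop).op x]
          exact (congrArg _ (nat _)).trans (map_two G.1 _ _ _ _ _) }
    refine ⟨⟨α⟩, ?_⟩
    apply CategoryTheory.Sheaf.hom_ext
    ext V x
    let k := homOfLE (show V.unop ≤ hf.functorObj ((Opens.map f).obj V.unop) from hf.le_functorObj_iff.2 le_rfl)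
    show G.1.map _ (η.1.app _ (F.1.map _ x)) = η.1.app V x
    have nat : ∀ y, η.1.app V (F.1.map ((Opens.map f).map k).op y) =
        G.1.map ((Opens.map f).map k).op (η.1.app (op (hf.functorObj ((Opens.map f).obj V.unop))) y) :=
      fun y => congrArg (fun q => q y) (η.1.naturality k.op)
    refine Eq.trans ?_ (congrArg (η.1.app V) ((Functor.map_comp_apply F.1
      (eqToHom (h ((Opens.map f).obj V.unop))).op ((Opens.map f).map k).op x).symm.trans (map_self F.1 _ x)))
    exact (nat _).symm
  · refine ⟨fun {F G} a b hab => ?_⟩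
    apply CategoryTheory.Sheaf.hom_ext
    ext U x
    obtain ⟨U⟩ := U
    have := congrArg (fun q : (TopCat.Sheaf.pushforward (Type u) f).obj F ⟶ _ => q.1.app (op (hf.functorObj U))) hab
    have key : ∀ (W : Opens Z), W = U → a.1.app (op W) = b.1.app (op W) → a.1.app (op U) x = b.1.app (op U) x := by
      rintro W rfl e
      rw [e]
    exact key _ (h U) this

theorem isIso_counit {f : Z ⟶ X} (hf : IsInducing f) (F : Z.Sheaf (Type u)) :
    IsIso ((TopCat.Sheaf.pullbackPushforwardAdjunction (Type u) f).counit.app F) := by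
  obtain ⟨_, _⟩ := pushforward_fullyFaithful hf
  infer_instance

/-- A terminal object of types has one element. -/
@[implicit_reducible]
noncomputable def uniqueOfTerminal {A : Type u} (h : IsTerminal A) : Unique A :=
  Types.isTerminalEquivUnique A h

theorem nonempty_unique_stalk_pushforward {f : Z ⟶ X} (hf : IsClosedEmbedding f) (F : Z.Sheaf (Type u))
    (x : X) (hx : x ∉ Set.range f) :
    Nonempty (Unique (((TopCat.Sheaf.pushforward (Type u) f).obj F).presheaf.stalk x)) := by
  let U : Opens X := ⟨(Set.range f)ᶜ, hf.isClosed_range.isOpen_compl⟩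
  let P := ((TopCat.Sheaf.pushforward (Type u) f).obj F).presheaf
  have hterm : ∀ W : Opens X, W ≤ U → Nonempty (Unique (P.obj (op W))) := fun W hW =>
    ⟨uniqueOfTerminal (F.isTerminalOfEqEmpty (eq_bot_iff.2 fun z hz => hW hz ⟨z, rfl⟩))⟩
  obtain ⟨u₀⟩ := hterm U le_rfl
  refine ⟨⟨⟨P.germ U x hx u₀.default⟩, fun s => ?_⟩⟩
  obtain ⟨W, hW, t, rfl⟩ := TopCat.Presheaf.exists_germ_eq P s
  refine P.germ_ext (W ⊓ U) ⟨hW, hx⟩ (homOfLE inf_le_left) (homOfLE inf_le_right) ?_
  obtain ⟨u₁⟩ := hterm (W ⊓ U) inf_le_right
  exact (u₁.uniq _).trans (u₁.uniq _).symm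

open scoped Classical in
/-- The skyscraper sheaves of a point and of its image correspond. -/
noncomputable def skyscraperPushforwardIso (f : Z ⟶ X) (z : Z) :
    skyscraperSheafFunctor (C := Type u) z ⋙ TopCat.Sheaf.pushforward (Type u) f ≅
      skyscraperSheafFunctor (C := Type u) (f z) :=
  NatIso.ofComponents (fun A => (fullyFaithfulSheafToPresheaf _ _).preimageIso
    (NatIso.ofComponents (fun V => Iso.refl _)))
    fun u => by
      apply CategoryTheory.Sheaf.hom_ext
      exact (Category.comp_id _).trans (Category.id_comp _).symm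

open scoped Classical in
/-- The stalks of an inverse image. -/
noncomputable def pullbackStalkIso (f : Z ⟶ X) (z : Z) :
    TopCat.Sheaf.pullback (Type u) f ⋙ TopCat.Sheaf.forget (Type u) Z ⋙ TopCat.Presheaf.stalkFunctor (Type u) z ≅
      TopCat.Sheaf.forget (Type u) X ⋙ TopCat.Presheaf.stalkFunctor (Type u) (f z) :=
  Adjunction.leftAdjointUniq
    ((TopCat.Sheaf.pullbackPushforwardAdjunction (Type u) f).comp (stalkSkyscraperSheafAdjunction z))
    ((stalkSkyscraperSheafAdjunction (f z)).ofNatIsoRight (skyscraperPushforwardIso f z).symm)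

theorem essImage_pushforward_iff {i : Z ⟶ X} (hi : IsClosedEmbedding i) (G : X.Sheaf (Type u)) :
    (TopCat.Sheaf.pushforward (Type u) i).essImage G ↔
      ∀ x : X, x ∉ Set.range i → Nonempty (Unique (G.presheaf.stalk x)) := by
  constructor
  · rintro ⟨F, ⟨e⟩⟩ x hx
    obtain ⟨u₀⟩ := nonempty_unique_stalk_pushforward hi F x hx
    let e' := ((TopCat.Sheaf.forget (Type u) X ⋙ TopCat.Presheaf.stalkFunctor (Type u) x).mapIso e).toEquiv
    exact ⟨@Equiv.unique _ _ u₀ e'.symm⟩
  · intro h
    let adj := TopCat.Sheaf.pullbackPushforwardAdjunction (Type u) i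
    obtain ⟨_, _⟩ := pushforward_fullyFaithful hi.isInducing
    have hiso : ∀ x : X, IsIso ((TopCat.Presheaf.stalkFunctor (Type u) x).map (adj.unit.app G).1) := by
      intro x
      by_cases hx : x ∈ Set.range i
      · obtain ⟨z, rfl⟩ := hx
        have : IsIso ((TopCat.Sheaf.pullback (Type u) i).map (adj.unit.app G)) := by
          have hc : IsIso (adj.counit.app ((TopCat.Sheaf.pullback (Type u) i).obj G)) := isIso_counit hi.isInducing _
          have : IsIso ((TopCat.Sheaf.pullback (Type u) i).map (adj.unit.app G) ≫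
              adj.counit.app ((TopCat.Sheaf.pullback (Type u) i).obj G)) := by
            rw [adj.left_triangle_components G]; exact IsIso.id _
          exact IsIso.of_isIso_comp_right _ (adj.counit.app ((TopCat.Sheaf.pullback (Type u) i).obj G))
        exact (NatIso.isIso_map_iff (pullbackStalkIso i z) (adj.unit.app G)).1
          ((TopCat.Sheaf.forget (Type u) Z ⋙ TopCat.Presheaf.stalkFunctor (Type u) z).map_isIso
            ((TopCat.Sheaf.pullback (Type u) i).map (adj.unit.app G)))
      · obtain ⟨u₁⟩ := h x hx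
        obtain ⟨u₂⟩ := nonempty_unique_stalk_pushforward hi ((TopCat.Sheaf.pullback (Type u) i).obj G) x hx
        refine (isIso_iff_bijective _).2 ⟨fun a b _ => (u₁.uniq a).trans (u₁.uniq b).symm,
          fun b => ⟨u₁.default, (u₂.uniq _).trans (u₂.uniq b).symm⟩⟩
    have := TopCat.Presheaf.isIso_of_stalkFunctor_map_iso (adj.unit.app G)
    exact ⟨_, ⟨(asIso (adj.unit.app G)).symm⟩⟩

section Open

variable {X : TopCat.{u}} (U : Opens X) (L : (TopCat.of U).Sheaf (Type u) ⥤ X.Sheaf (Type u))
  (adj : L ⊣ U.sheafRestrict (C := Type u))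

/-- The inclusion of an open subset. -/
abbrev openIncl : TopCat.of U ⟶ X := U.inclusion'

/-- The right adjoint of restriction. -/
noncomputable def restrictAdjunction :
    U.sheafRestrict (C := Type u) ⊣ TopCat.Sheaf.pushforward (Type u) (openIncl U) :=
  (TopCat.Sheaf.pullbackPushforwardAdjunction (Type u) (openIncl U)).ofNatIsoLeft
    (U.isOpenEmbedding.sheafPullbackIso (Type u))

include adj in
theorem extendByEmpty_fullyFaithful : L.Full ∧ L.Faithful := by
  obtain ⟨_, _⟩ := pushforward_fullyFaithful (f := openIncl U) U.isOpenEmbedding.isInducing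
  let t : Adjunction.Triple L (U.sheafRestrict (C := Type u)) (TopCat.Sheaf.pushforward (Type u) (openIncl U)) :=
    ⟨adj, restrictAdjunction U⟩
  have h := t.fullyFaithfulEquiv.symm (Functor.FullyFaithful.ofFullyFaithful _)
  exact ⟨h.full, h.faithful⟩

/-- A type with only one map to every type is empty. -/
theorem isEmpty_of_hom_subsingleton {S : Type u} (h : ∀ a b : S → ULift.{u} Bool, a = b) : IsEmpty S :=
  ⟨fun s => by simpa using congrFun (h (fun _ => ⟨true⟩) fun _ => ⟨false⟩) s⟩

open scoped Classical in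
include adj in
theorem isEmpty_stalk_extendByEmpty (F : (TopCat.of U).Sheaf (Type u)) {x : X} (hx : x ∉ U) :
    IsEmpty ((L.obj F).presheaf.stalk x) := by
  let adj' := adj.comp (stalkSkyscraperSheafAdjunction (C := Type u) x)
  refine isEmpty_of_hom_subsingleton fun a b => ?_
  have hsub : ∀ (p q : F ⟶ U.sheafRestrict.obj (skyscraperSheaf x (ULift.{u} Bool))), p = q := by
    intro p q
    apply CategoryTheory.Sheaf.hom_ext
    refine NatTrans.ext (funext fun V => ?_)
    refine IsTerminal.hom_ext (isTerminalSkyscraperSheafObjObjOfNotMem ?_) _ _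
    rintro ⟨y, -, hy⟩
    exact hx (hy ▸ y.2)
  have := (adj'.homEquiv F (ULift.{u} Bool)).injective
    (a₁ := TypeCat.ofHom a) (a₂ := TypeCat.ofHom b) (hsub _ _)
  exact funext fun s => congrArg (fun q => q s) this

include adj in
theorem essImage_extendByEmpty_iff (G : X.Sheaf (Type u)) :
    L.essImage G ↔ ∀ x : X, x ∉ U → IsEmpty (G.presheaf.stalk x) := by
  constructor
  · rintro ⟨F, ⟨e⟩⟩ x hx
    have := isEmpty_stalk_extendByEmpty U L adj F hx
    exact @Equiv.isEmpty _ _
      ((TopCat.Sheaf.forget (Type u) X ⋙ TopCat.Presheaf.stalkFunctor (Type u) x).mapIso e).toEquiv.symm this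
  · intro h
    obtain ⟨_, _⟩ := extendByEmpty_fullyFaithful U L adj
    have hR : IsIso (U.sheafRestrict.map (adj.counit.app G)) := by
      have hu' : IsIso adj.unit := adj.unit_isIso_of_L_fully_faithful
      have hu : IsIso (adj.unit.app (U.sheafRestrict.obj G)) := NatIso.isIso_app_of_isIso _ _
      have : IsIso (adj.unit.app (U.sheafRestrict.obj G) ≫ U.sheafRestrict.map (adj.counit.app G)) := by
        rw [adj.right_triangle_components G]; exact IsIso.id _
      exact IsIso.of_isIso_comp_left (adj.unit.app (U.sheafRestrict.obj G)) _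
    have hiso : ∀ x : X, IsIso ((TopCat.Presheaf.stalkFunctor (Type u) x).map (adj.counit.app G).1) := by
      intro x
      by_cases hx : x ∈ U
      · have : IsIso ((TopCat.Sheaf.pullback (Type u) (openIncl U)).map (adj.counit.app G)) :=
          (NatIso.isIso_map_iff (U.isOpenEmbedding.sheafPullbackIso (Type u)) (adj.counit.app G)).2 hR
        let z : TopCat.of U := ⟨x, hx⟩
        refine (NatIso.isIso_map_iff (pullbackStalkIso (openIncl U) z) (adj.counit.app G)).1 ?_
        exact (TopCat.Sheaf.forget (Type u) _ ⋙ TopCat.Presheaf.stalkFunctor (Type u) z).map_isIso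
          ((TopCat.Sheaf.pullback (Type u) (openIncl U)).map (adj.counit.app G))
      · have := h x hx
        have := isEmpty_stalk_extendByEmpty U L adj (U.sheafRestrict.obj G) hx
        refine (isIso_iff_bijective _).2 ⟨fun a => isEmptyElim (α := ((L.obj (U.sheafRestrict.obj G)).presheaf.stalk x)) a,
          fun b => isEmptyElim (α := G.presheaf.stalk x) b⟩
    have := TopCat.Presheaf.isIso_of_stalkFunctor_map_iso (adj.counit.app G)
    exact ⟨_, ⟨asIso (adj.counit.app G)⟩⟩

end Open

end Groth.Agent.ShSpLib
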