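import Groth.Prelude.Def_W4stktopologysheavesBas
import Mathlib.Topology.Sheaves.LocalPredicate
import Mathlib.Topology.Sheaves.SheafCondition.Sites

/-!
# Sheaves on a basis
-/

set_option autoImplicit false
set_option linter.unusedVariables false

universe u

open TopologicalSpace Opposite CategoryTheory

namespace Groth.Agent.ShSpLib

variable {X : Type u} [TopologicalSpace X] {B : Set (Opens X)} (hB : Opens.IsBasis B) {F : ShB.Pre B}

include hB in
lemma exists_mem {U : Opens X} {x : X} (hx : x ∈ U) : ∃ V : B, x ∈ (V : Opens X) ∧ (V : Opens X) ≤ U :=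
  let ⟨V, hV, hxV, hVU⟩ := Opens.isBasis_iff_nbhd.1 hB hx
  ⟨⟨V, hV⟩, hxV, hVU⟩

/-- Locally equal sections are equal, for a system of unique gluing conditions. -/
def Separated (F : ShB.Pre B) : Prop :=
  ∀ (U : B) (t t' : F.obj U), (∀ x ∈ (U : Opens X), ∃ (V : B) (_ : x ∈ (V : Opens X))
    (h : (V : Opens X) ≤ (U : Opens X)), F.res h t = F.res h t') → t = t'

/-- A cofinal system of coverings. -/
def Cofinal (C : ∀ U : B, Set (ShB.Cover B)) : Prop :=
  ∀ (U : B) (ι : Type u) (V : ι → B), (∀ i, (V i : Opens X) ≤ (U : Opens X)) →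
    (U : Opens X) ≤ ⨆ i, (V i : Opens X) →
    ∃ c ∈ C U, ∀ i' : c.ι, ∃ i, (c.V i' : Opens X) ≤ (V i : Opens X)

lemma separated_of_system (C : ∀ U : B, Set (ShB.Cover B)) (hCU : ∀ U, ∀ c ∈ C U, c.U = U)
    (hC : Cofinal C) (h : ∀ U, ∀ c ∈ C U, ShB.GluesUniquely F c) : Separated F := by
  intro U t t' htt'
  choose V hxV hVU heq using htt'
  obtain ⟨c, hc, href⟩ := hC U ((U : Opens X) : Set X) (fun x => V x.1 x.2) (fun x => hVU _ _)
    (fun x hx => Opens.mem_iSup.2 ⟨⟨x, hx⟩, hxV x hx⟩)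
  obtain rfl := hCU _ c hc
  refine (h _ c hc (fun i => F.res (c.V_le i) t) (fun i j k => ?_)).unique (fun i => rfl) (fun i => ?_)
  · rw [F.res_comp, F.res_comp]
  · obtain ⟨x, hx⟩ := href i
    rw [← F.res_comp (hVU _ _) hx, ← heq, F.res_comp]

include hB in
theorem isSheaf_of_system (C : ∀ U : B, Set (ShB.Cover B)) (hCU : ∀ U, ∀ c ∈ C U, c.U = U)
    (hC : Cofinal C) (h : ∀ U, ∀ c ∈ C U, ShB.GluesUniquely F c) : ShB.IsSheaf F := by
  have sep := separated_of_system C hCU hC h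
  intro c s hs
  obtain ⟨c', hc', href⟩ := hC c.U c.ι c.V c.V_le c.V_cover
  have hU := hCU _ c' hc'
  obtain ⟨U', ι', V', V'le, V'cov, κ', W', W'l, W'r, W'cov⟩ := c'
  subst hU
  choose a ha using href
  -- sections agree on overlaps
  have agree : ∀ (i j : c.ι) (V : B) (h₁ : (V : Opens X) ≤ (c.V i : Opens X)) (h₂ : (V : Opens X) ≤ (c.V j : Opens X)),
      F.res h₁ (s i) = F.res h₂ (s j) := by
    intro i j V h₁ h₂
    refine sep V _ _ fun x hx => ?_
    obtain ⟨k, hk⟩ := Opens.mem_iSup.1 (c.W_cover i j ⟨h₁ hx, h₂ hx⟩)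
    obtain ⟨Z, hxZ, hZ⟩ := exists_mem hB (show x ∈ (V : Opens X) ⊓ (c.W i j k : Opens X) from ⟨hx, hk⟩)
    refine ⟨Z, hxZ, hZ.trans inf_le_left, ?_⟩
    rw [F.res_comp, F.res_comp, ← F.res_comp (c.W_le_left i j k) (hZ.trans inf_le_right), hs,
      F.res_comp]
  obtain ⟨t, ht, huniq⟩ := h c.U ⟨c.U, ι', V', V'le, V'cov, κ', W', W'l, W'r, W'cov⟩ hc'
    (fun i => F.res (ha i) (s (a i))) (fun i j k => by
      rw [F.res_comp, F.res_comp]
      exact agree _ _ _ _ _)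
  refine ⟨t, fun i => ?_, fun t' ht' => huniq t' fun i => ?_⟩
  · refine sep (c.V i) _ _ fun x hx => ?_
    obtain ⟨i', hi'⟩ := Opens.mem_iSup.1 (V'cov (c.V_le i hx))
    obtain ⟨Z, hxZ, hZ⟩ := exists_mem hB (show x ∈ (c.V i : Opens X) ⊓ (V' i' : Opens X) from ⟨hx, hi'⟩)
    refine ⟨Z, hxZ, hZ.trans inf_le_left, ?_⟩
    have e := congrArg (F.res (hZ.trans inf_le_right)) (ht i')
    rw [F.res_comp] at e
    dsimp only at e
    rw [F.res_comp] at e
    rw [F.res_comp, e]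
    exact agree _ _ _ _ _
  · show F.res (V'le i) t' = F.res (ha i) (s (a i))
    rw [← ht', F.res_comp]

/-- The covering data with the intersections as overlaps. -/
def interCover (hBi : ∀ U ∈ B, ∀ U' ∈ B, ∀ U'' ∈ B, U' ≤ U → U'' ≤ U → U' ⊓ U'' ∈ B) (c : ShB.Cover B) :
    ShB.Cover B where
  U := c.U
  ι := c.ι
  V := c.V
  V_le := c.V_le
  V_cover := c.V_cover
  κ _ _ := PUnit
  W i j _ := ⟨(c.V i : Opens X) ⊓ c.V j, hBi c.U c.U.2 _ (c.V i).2 _ (c.V j).2 (c.V_le i) (c.V_le j)⟩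
  W_le_left _ _ _ := inf_le_left
  W_le_right _ _ _ := inf_le_right
  W_cover i j := le_iSup_of_le PUnit.unit le_rfl

include hB in
lemma separated (hF : ShB.IsSheaf F) : Separated F :=
  separated_of_system (fun U => {c | c.U = U}) (fun _ _ h => h) (fun U ι V hV hc => by
    refine ⟨⟨U, ι, V, hV, hc, fun i j => {W : B // (W : Opens X) ≤ (V i : Opens X) ⊓ V j}, fun _ _ k => k.1,
      fun _ _ k => k.2.trans inf_le_left, fun _ _ k => k.2.trans inf_le_right, fun i j x hx => ?_⟩,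
      rfl, fun i => ⟨i, le_rfl⟩⟩
    obtain ⟨W, hxW, hW⟩ := exists_mem hB hx
    exact Opens.mem_iSup.2 ⟨⟨W, hW⟩, hxW⟩) fun _ c _ => hF c

include hB in
lemma stalkRel_equivalence (x : X) : Equivalence (ShB.StalkRel F x) where
  refl a := ⟨a.1.1, a.1.2, le_rfl, le_rfl, rfl⟩
  symm := fun ⟨W, hW, ha, hb, e⟩ => ⟨W, hW, hb, ha, e.symm⟩
  trans := fun {a b c} ⟨W, hW, ha, hb, e⟩ ⟨W', hW', hb', hc, e'⟩ => by
    obtain ⟨Z, hxZ, hZ⟩ := exists_mem hB (show x ∈ (W : Opens X) ⊓ W' from ⟨hW, hW'⟩)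
    refine ⟨Z, hxZ, (hZ.trans inf_le_left).trans ha, (hZ.trans inf_le_right).trans hc, ?_⟩
    rw [← F.res_comp ha (hZ.trans inf_le_left), e, F.res_comp, ← F.res_comp hc (hZ.trans inf_le_right), ← e',
      F.res_comp]

include hB in
lemma germ_eq_iff {U V : B} {x : X} (hU : x ∈ (U : Opens X)) (hV : x ∈ (V : Opens X)) (s : F.obj U) (t : F.obj V) :
    ShB.germ F x hU s = ShB.germ F x hV t ↔ ∃ (W : B) (_ : x ∈ (W : Opens X)) (h₁ : (W : Opens X) ≤ (U : Opens X))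
      (h₂ : (W : Opens X) ≤ (V : Opens X)), F.res h₁ s = F.res h₂ t :=
  ⟨fun h => (stalkRel_equivalence hB x).eqvGen_iff.1 (Quot.eqvGen_exact h), fun h => Quot.sound h⟩

lemma germ_res {U V : B} (h : (V : Opens X) ≤ (U : Opens X)) {x : X} (hx : x ∈ (V : Opens X)) (s : F.obj U) :
    ShB.germ F x hx (F.res h s) = ShB.germ F x (h hx) s :=
  Quot.sound ⟨V, hx, le_rfl, h, by rw [F.res_id]⟩

include hB in
theorem germ_injective (hF : ShB.IsSheaf F) (U : B) :
    Function.Injective (fun (s : F.obj U) (x : (U : Opens X)) => ShB.germ F x.1 x.2 s) := fun s t h =>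
  separated hB hF U s t fun x hx => by
    obtain ⟨W, hW, h₁, h₂, e⟩ := (germ_eq_iff hB _ _ s t).1 (congrFun h ⟨x, hx⟩)
    exact ⟨W, hW, h₁, e⟩

include hB in
theorem exists_section_iff (hF : ShB.IsSheaf F) (U : B) (f : ∀ x : (U : Opens X), ShB.Stalk F x.1) :
    (∃ s : F.obj U, ∀ x, ShB.germ F x.1 x.2 s = f x) ↔
      ∀ x : (U : Opens X), ∃ (V : B) (_ : x.1 ∈ (V : Opens X))
        (hVU : (V : Opens X) ≤ (U : Opens X)) (σ : F.obj V),
        ∀ (y : X) (hy : y ∈ (V : Opens X)), ShB.germ F y hy σ = f ⟨y, hVU hy⟩ := by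
  refine ⟨fun ⟨s, hs⟩ x => ⟨U, x.2, le_rfl, s, fun y hy => hs ⟨y, hy⟩⟩, fun h => ?_⟩
  choose V hxV hVU σ hσ using h
  let c : ShB.Cover B :=
    { U := U
      ι := ((U : Opens X) : Set X)
      V := V
      V_le := hVU
      V_cover := fun x hx => Opens.mem_iSup.2 ⟨⟨x, hx⟩, hxV _⟩
      κ := fun i j => {W : B // ∃ (h₁ : (W : Opens X) ≤ (V i : Opens X)) (h₂ : (W : Opens X) ≤ (V j : Opens X)),
        F.res h₁ (σ i) = F.res h₂ (σ j)}
      W := fun _ _ k => k.1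
      W_le_left := fun _ _ k => k.2.1
      W_le_right := fun _ _ k => k.2.2.1
      W_cover := fun i j x hx => by
        obtain ⟨W, hW, h₁, h₂, e⟩ := (germ_eq_iff hB _ _ (σ i) (σ j)).1 ((hσ i x hx.1).trans (hσ j x hx.2).symm)
        exact Opens.mem_iSup.2 ⟨⟨W, h₁, h₂, e⟩, hW⟩ }
  obtain ⟨t, ht, -⟩ := hF c σ fun i j k => k.2.2.2
  refine ⟨t, fun x => ?_⟩
  rw [← germ_res (hVU x) (hxV x), ht x]
  exact hσ x x.1 (hxV x)

/-- The sheaf of compatible families of germs. -/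
noncomputable def extSheaf (F : ShB.Pre B) : TopCat.Sheaf (Type u) (TopCat.of X) :=
  TopCat.subsheafToTypes (X := TopCat.of X) (T := fun x => ShB.Stalk F x)
    (TopCat.PrelocalPredicate.sheafify
      { pred := fun {U} f => ∃ (V : B) (h : U ≤ (V : Opens X)) (σ : F.obj V),
          ∀ (y : X) (hy : y ∈ U), f ⟨y, hy⟩ = ShB.germ F y (h hy) σ
        res := fun {U V} i f ⟨W, h, σ, hσ⟩ => ⟨W, i.le.trans h, σ, fun y hy => hσ y (i.le hy)⟩ })

include hB in
theorem nonempty_iso_extSheaf (hF : ShB.IsSheaf F) :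
    Nonempty (ShB.Iso (ShB.restrict B (extSheaf F).presheaf) F) := by
  have hmem : ∀ (U : B) (f : ((ShB.restrict B (extSheaf F).presheaf).obj U)),
      ∃ s : F.obj U, ∀ x, ShB.germ F x.1 x.2 s = f.1 x := by
    intro U f
    rw [exists_section_iff hB hF U f.1]
    intro x
    obtain ⟨V, hxV, i, W, h, σ, hσ⟩ := f.2 x
    obtain ⟨Z, hxZ, hZ⟩ := exists_mem hB hxV
    exact ⟨Z, hxZ, hZ.trans i.le, F.res (hZ.trans h) σ, fun y hy =>
      (germ_res _ hy σ).trans (hσ y (hZ hy)).symm⟩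
  choose app happ using hmem
  refine ⟨⟨⟨app, fun {U V} h f => germ_injective hB hF V ?_⟩,
    ⟨fun U s => ⟨fun x => ShB.germ F x.1 x.2 s, fun x => ⟨U, x.2, 𝟙 _, U, le_rfl, s, fun y hy => rfl⟩⟩, ?_⟩,
    fun U f => Subtype.ext (funext fun x => happ U f x), fun U s => germ_injective hB hF U ?_⟩⟩
  · funext x
    refine (germ_res h x.2 _).trans ((happ U f ⟨x.1, h x.2⟩).trans ?_)
    exact (happ V ((ShB.restrict B (extSheaf F).presheaf).res h f) x).symm
  · intro U V h s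
    refine Subtype.ext (funext fun x => ?_)
    exact (germ_res h x.2 s).symm
  · funext x
    exact happ U _ x

end Groth.Agent.ShSpLib
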